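import Cfsg.Agent.H20.Co1.Pres

/-!
# The automorphisms of `R1`, `R2`, `R3` in a saturated system on the model (S5227, task C11a, helper20)

The facts of section C5 (`A_unique`, `auts_R3_basic`) are hypotheses here.
-/

set_option autoImplicit false
set_option linter.style.longLine false

namespace Cfsg.Agent.H20.Co1

open Subgroup Cfsg Cfsg.Agent.H752 Cfsg.Agent.H776.Co P

/-- the statement `A_unique` (C5) -/
def AUnique : Prop := ∀ B : Subgroup P, Nat.card B = 3 ^ 6 → (∀ x ∈ B, x ^ 3 = 1) →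
  (∀ x ∈ B, ∀ y ∈ B, x * y = y * x) → B = A

/-- the statement `auts_R3_basic` (C5) -/
def R3Basic : Prop := ∀ f : P → P, (∀ x ∈ R3, f x ∈ R3) → (∀ x ∈ R3, ∀ y ∈ R3, f (x * y) = f x * f y) →
  (∀ x ∈ R3, ∀ y ∈ R3, f x = f y → x = y) →
  (∀ x ∈ W1, f x ∈ W1) ∧ (∀ x ∈ W3, f x ∈ W3) ∧ (∀ x ∈ R1 ⊓ R3, f x ∈ R1) ∧
    ((∀ x ∈ W5, f x ∈ W5) ∨ ∃ i, ∀ x ∈ W5, f x ∈ DD i)

/-! ### generalities -/

theorem mp_cancel {Ω : Type*} [Group Ω] {S Q : Subgroup Ω} {F : FusionSystem S} [Finite Q] {f g : Ω → Ω}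
    (hg : Mp F Q g) (hgm : ∀ x ∈ Q, g x ∈ Q) (hfm : ∀ x ∈ Q, f x ∈ Q) (hgf : Mp F Q (fun x => g (f x))) :
    Mp F Q f := by
  obtain ⟨g2, hg2, h1, h2⟩ := hg.exists_symm (R := Q) le_rfl (T := Q) (fun y =>
    ⟨fun hy => hg.surj hgm hy, fun ⟨x, hx, hxy⟩ => hxy ▸ hgm x hx⟩)
  exact (hgf.comp hg2 fun x hx => hgm _ (hfm x hx)).congr fun x hx => (h1 _ (hfm x hx)).symm

theorem mp_of_chain {F F' : FusionSystem (⊤ : Subgroup P)} (hF : F.IsSaturated 3)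
    (htop : ∀ f, Mp F ⊤ f → Mp F' ⊤ f) {Q : Subgroup P} (hQn : ∀ s x : P, x ∈ Q → s * x * s⁻¹ ∈ Q) {n : ℕ}
    {C : ℕ → Subgroup P} (h0 : C 0 = ⊥) (hn : C n = Q) (hle : ∀ i < n, C i ≤ C (i + 1))
    (hC : ∀ i < n, ∀ s ∈ (⊤ : Subgroup P), ∀ x ∈ C (i + 1), s * x * s⁻¹ * x⁻¹ ∈ C i) {h : P → P} (hh : Mp F Q h)
    (hhC : ∀ i ≤ n, ∀ x ∈ C i, h x ∈ C i) : Mp F' Q h := by
  have : Fact (Nat.Prime 3) := ⟨Nat.prime_three⟩
  have hfin : Finite ↥(⊤ : Subgroup P) := inferInstance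
  obtain ⟨g, hg, hgh⟩ := extend_of_chain (S := (⊤ : Subgroup P)) (p := 3) (isPGroup_P.to_subgroup _) hF le_top
    (fun s _ x hx => hQn s x hx) h0 hn hle hC hh hhC
  exact ((htop g hg).res le_top).congr fun x hx => (hgh x hx).symm

theorem card_A : Nat.card A = 3 ^ 6 := by
  have e : A ≃ (Fin 6 → ZMod 3) :=
    { toFun := fun x => crd x.1
      invFun := fun v => ⟨vec v, vec_mem v⟩
      left_inv := fun x => Subtype.ext (vec_crd x.2)
      right_inv := fun v => crd_vec v }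
  rw [Nat.card_congr e]
  simp [Nat.card_eq_fintype_card]

theorem A_comm {x y : P} (hx : x ∈ A) (hy : y ∈ A) : x * y = y * x := by
  obtain ⟨x1, x2, x3⟩ := hx
  obtain ⟨y1, y2, y3⟩ := hy
  ext <;> simp [x1, x2, x3, y1, y2, y3, add_comm]

theorem A_pow {x : P} (hx : x ∈ A) : x ^ 3 = 1 := by
  obtain ⟨x1, x2, x3⟩ := hx
  have h3 : ∀ t : ZMod 3, t + t + t = 0 := by decide
  rw [pow_succ, pow_two]
  ext <;> simp [x1, x2, x3, h3]

/-- automorphisms map `A` to `A` -/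
theorem map_A (hU : AUnique) {F : FusionSystem (⊤ : Subgroup P)} {Q : Subgroup P} (hQ : A ≤ Q) {f : P → P}
    (hf : Mp F Q f) : ∀ x ∈ A, f x ∈ A := by
  obtain ⟨T, hT, -, hc⟩ := hf.exists_image hQ
  have h1 : T = A := by
    apply hU T (hc.trans card_A)
    · intro x hx
      obtain ⟨y, hy, rfl⟩ := (hT x).1 hx
      rw [← hf.pow (hQ hy), A_pow hy, hf.one]
    · intro x hx y hy
      obtain ⟨x', hx', rfl⟩ := (hT x).1 hx
      obtain ⟨y', hy', rfl⟩ := (hT y).1 hy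
      rw [← hf.mul (hQ hx') (hQ hy'), A_comm hx' hy', hf.mul (hQ hy') (hQ hx')]
  intro x hx
  rw [← h1]
  exact (hT _).2 ⟨x, hx, rfl⟩

theorem cases3 : ∀ c : ZMod 3, c = 0 ∨ c = 1 ∨ c = 2 := by decide

/-- a homomorphism mapping `A` and `x13` to `AZ` maps `AZ` to `AZ` -/
theorem map_AZ {F : FusionSystem (⊤ : Subgroup P)} {Q : Subgroup P} (hQ : AZ ≤ Q) {f : P → P}
    (hf : Mp F Q f) (hA : ∀ x ∈ A, f x ∈ A) (hz : f z13 ∈ AZ) : ∀ x ∈ AZ, f x ∈ AZ := by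
  have hAAZ : A ≤ AZ := fun _ ⟨h1, h2, _⟩ => ⟨h1, h2⟩
  intro x hx
  have hzi : z13⁻¹ ∈ AZ := inv_mem z13_mem
  rcases cases3 x.c with h | h | h
  · exact hAAZ (hA x ⟨hx.1, hx.2, h⟩)
  · have h1 : x * z13⁻¹ ∈ A := ⟨by simp [z13, hx.1], by simp [z13, hx.2], by simp [z13, hx.1, h]⟩
    have h2 : f x = f (x * z13⁻¹) * f z13 := by
      rw [← hf.mul (hQ (hAAZ h1)) (hQ z13_mem), inv_mul_cancel_right]
    rw [h2]
    exact mul_mem (hAAZ (hA _ h1)) hz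
  · have h1 : x * z13⁻¹ * z13⁻¹ ∈ A := ⟨by simp [z13, hx.1], by simp [z13, hx.2], by
      simp [z13, hx.1, h]; decide⟩
    have h2 : f x = f (x * z13⁻¹ * z13⁻¹) * f z13 * f z13 := by
      rw [← hf.mul (hQ (hAAZ h1)) (hQ z13_mem), inv_mul_cancel_right, ← hf.mul (hQ (mul_mem hx hzi)) (hQ z13_mem),
        inv_mul_cancel_right]
    rw [h2]
    exact mul_mem (mul_mem (hAAZ (hA _ h1)) hz) hz

theorem A_normal (s x : P) (hx : x ∈ A) : s * x * s⁻¹ ∈ A := by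
  obtain ⟨x1, x2, x3⟩ := hx
  exact ⟨by simp [x1], by simp [x2], by simp [x1, x2, x3]⟩

/-- the common part for `R1`, `R2` -/
theorem auts_common {F F' : FusionSystem (⊤ : Subgroup P)} (hU : AUnique) (hF : F.IsSaturated 3)
    (htop : ∀ f, Mp F ⊤ f → Mp F' ⊤ f) {Q : Subgroup P} (hQ : AZ ≤ Q) (hQn : ∀ s x : P, x ∈ Q → s * x * s⁻¹ ∈ Q)
    {f : P → P} (hf : Mp F Q f) (hfm : ∀ x ∈ Q, f x ∈ Q) {g : P → P} (hg : Mp F Q g) (hg' : Mp F' Q g)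
    (hgm : ∀ x ∈ Q, g x ∈ Q) (hz : g (f z13) ∈ AZ) : Mp F' Q f := by
  have hAQ : A ≤ Q := fun _ ⟨h1, h2, _⟩ => hQ ⟨h1, h2⟩
  refine mp_cancel hg' hgm hfm ?_
  have hh : Mp F Q (fun x => g (f x)) := hf.comp hg hfm
  have hhm : ∀ x ∈ Q, g (f x) ∈ Q := fun x hx => hgm _ (hfm x hx)
  have hA := map_A hU hAQ hh
  have hAZ := map_AZ hQ hh hA hz
  exact mp_of_chain hF htop hQn (n := 8) (C := chA Q) rfl rfl (chA_le hQ) chA_comm hh (chA_pres hQ hh hhm hA hAZ)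

theorem auts_R1' (hU : AUnique) {F F' : FusionSystem (⊤ : Subgroup P)} (hF : F.IsSaturated 3) (h3 : Mp F R1 w1)
    (h3' : Mp F' R1 w1) (htop : ∀ f, Mp F ⊤ f → Mp F' ⊤ f) :
    ∀ f, Mp F R1 f → (∀ x ∈ R1, f x ∈ R1) → Mp F' R1 f := by
  intro f hf hfm
  have hn : ∀ s x : P, x ∈ R1 → s * x * s⁻¹ ∈ R1 := by
    intro s x (hx : x.a = 0)
    show (s * x * s⁻¹).a = 0
    simp [hx]
  have hQ : AZ ≤ R1 := fun _ h => h.1
  have hw : ∀ x ∈ R1, w1 x ∈ R1 := fun x hx => hx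
  by_cases hb : (f z13).b = 0
  · exact auts_common hU hF htop hQ hn hf hfm (mp_id F le_top) (mp_id F' le_top) (fun x hx => hx)
      ⟨hfm z13 rfl, hb⟩
  · set α : ZMod 3 := -(f z13).c * (f z13).b⁻¹ with hα
    have hgF := (mp_conj F (P := R1) le_top (s := xa α) (Subgroup.mem_top _)).comp h3 (fun x hx => hn _ x hx)
    have hgF' := (mp_conj F' (P := R1) le_top (s := xa α) (Subgroup.mem_top _)).comp h3' (fun x hx => hn _ x hx)
    refine auts_common hU hF htop hQ hn hf hfm hgF hgF' (fun x hx => hw _ (hn _ x hx)) ?_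
    refine ⟨?_, ?_⟩
    · have h0 : (f z13).a = 0 := hfm z13 rfl
      simp [w1, h0]
    · have h0 : (f z13).a = 0 := hfm z13 rfl
      simp only [w1, mul_c, mul_b, inv_c, inv_b, inv_a, mul_a, xa, h0]
      rw [hα]
      have : (f z13).c + -(f z13).c * (f z13).b⁻¹ * (f z13).b = 0 := by
        rw [inv_mul_cancel_right₀ hb]; ring
      linear_combination this

theorem auts_R2' (hU : AUnique) {F F' : FusionSystem (⊤ : Subgroup P)} (hF : F.IsSaturated 3) {k : ZMod 3}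
    (h3 : Mp F R2 (w2 k)) (h3' : Mp F' R2 (w2 k)) (htop : ∀ f, Mp F ⊤ f → Mp F' ⊤ f) :
    ∀ f, Mp F R2 f → (∀ x ∈ R2, f x ∈ R2) → Mp F' R2 f := by
  intro f hf hfm
  have hn : ∀ s x : P, x ∈ R2 → s * x * s⁻¹ ∈ R2 := by
    intro s x (hx : x.b = 0)
    show (s * x * s⁻¹).b = 0
    simp [hx]
  have hQ : AZ ≤ R2 := fun _ h => h.2
  have hw : ∀ x ∈ R2, w2 k x ∈ R2 := fun x hx => hx
  by_cases ha : (f z13).a = 0
  · exact auts_common hU hF htop hQ hn hf hfm (mp_id F le_top) (mp_id F' le_top) (fun x hx => hx)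
      ⟨ha, hfm z13 rfl⟩
  · set β : ZMod 3 := (f z13).c * (f z13).a⁻¹ with hβ
    have hgF := (mp_conj F (P := R2) le_top (s := (⟨0, β, 0, 0, 0, 0, 0, 0, 0⟩ : P)) (Subgroup.mem_top _)).comp h3
      (fun x hx => hn _ x hx)
    have hgF' := (mp_conj F' (P := R2) le_top (s := (⟨0, β, 0, 0, 0, 0, 0, 0, 0⟩ : P)) (Subgroup.mem_top _)).comp h3'
      (fun x hx => hn _ x hx)
    refine auts_common hU hF htop hQ hn hf hfm hgF hgF' (fun x hx => hw _ (hn _ x hx)) ?_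
    have h0 : (f z13).b = 0 := hfm z13 rfl
    refine ⟨?_, ?_⟩
    · simp only [w2, mul_c, mul_b, inv_c, inv_b, inv_a, mul_a, h0]
      rw [hβ]
      have : (f z13).c - (f z13).a * ((f z13).c * (f z13).a⁻¹) = 0 := by
        rw [mul_comm (f z13).a, inv_mul_cancel_right₀ ha]; ring
      linear_combination -this
    · simp [w2, h0]

theorem auts_R3' (hB : R3Basic) {F F' : FusionSystem (⊤ : Subgroup P)} (hF : F.IsSaturated 3) (h3 : Mp F R3 w3)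
    (h3' : Mp F' R3 w3) (htop : ∀ f, Mp F ⊤ f → Mp F' ⊤ f) :
    ∀ f, Mp F R3 f → (∀ x ∈ R3, f x ∈ R3) → Mp F' R3 f := by
  intro f hf hfm
  have hn : ∀ s x : P, x ∈ R3 → s * x * s⁻¹ ∈ R3 := by
    intro s x (hx : x.m33 = 0)
    show (s * x * s⁻¹).m33 = 0
    simp [hx]
  have hw : ∀ x ∈ R3, w3 x ∈ R3 := by
    intro x _
    show (w3 x).m33 = 0
    simp [w3, w3Q, xa]
  have common : ∀ g : P → P, Mp F R3 g → Mp F' R3 g → (∀ x ∈ R3, g x ∈ R3) → (∀ x ∈ W5, g (f x) ∈ W5) →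
      Mp F' R3 f := by
    intro g hg hg' hgm h5
    refine mp_cancel hg' hgm hfm ?_
    have hh : Mp F R3 (fun x => g (f x)) := hf.comp hg hfm
    have hhm : ∀ x ∈ R3, g (f x) ∈ R3 := fun x hx => hgm _ (hfm x hx)
    obtain ⟨e1, e2, e3, -⟩ := hB _ hhm (fun x hx y hy => hh.mul hx hy) (fun x hx y hy => hh.inj hx hy)
    exact mp_of_chain hF htop hn (n := 8) (C := ch3) rfl rfl ch3_le ch3_comm hh
      (ch3_pres hh hhm e1 e2 (fun x hx => ⟨e3 x ⟨hx.1, hx.2⟩, hhm x hx.2⟩) h5)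
  obtain ⟨-, -, -, h5 | ⟨i, hi⟩⟩ := hB f hfm (fun x hx y hy => hf.mul hx hy) (fun x hx y hy => hf.inj hx hy)
  · exact common _ (mp_id F le_top) (mp_id F' le_top) (fun x hx => hx) h5
  · have hgF := (mp_conj F (P := R3) le_top (s := (⟨0, 0, 0, 0, 0, 0, 0, 0, i⟩ : P)) (Subgroup.mem_top _)).comp h3
      (fun x hx => hn _ x hx)
    have hgF' := (mp_conj F' (P := R3) le_top (s := (⟨0, 0, 0, 0, 0, 0, 0, 0, i⟩ : P)) (Subgroup.mem_top _)).comp h3'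
      (fun x hx => hn _ x hx)
    refine common _ hgF hgF' (fun x hx => hw _ (hn _ x hx)) ?_
    intro x hx
    obtain ⟨y1, y2, y3, y4⟩ := hi x hx
    set y := f x with hy
    refine ⟨?_, ?_, ?_, ?_⟩
    · simp [w3, w3Q, xa, y1]
    · simp [w3, w3Q, xa, y1, y2, y4]; ring
    · simp [w3, w3Q, xa, y1, y2, y3]; ring
    · simp [w3, w3Q, xa]

end Cfsg.Agent.H20.Co1
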