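import Cfsg.Agent.H752.Mp
import Cfsg.Agent.H802.FusNorm

/-!
# The chain lemma (S5227, task C11a, helper20)

`extend_of_chain`: `F` saturated over the `p`-group `S`, `Q` normal in `S`, a chain `1 = C 0 ≤ ... ≤ C n = Q` with
`[S, C (i + 1)] ≤ C i`; an automorphism of `Q` in the system which preserves all members of the chain extends to `S`.
-/

set_option autoImplicit false

namespace Cfsg.Agent.H20.Co1

open Subgroup Cfsg Cfsg.Agent.H752 Cfsg.FusionSystem Cfsg.Agent.H802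

variable {Ω : Type*} [Group Ω] {S : Subgroup Ω} {p : ℕ}

/-- the submonoid of the automorphisms of `Q` acting trivially on the factors of the chain -/
def stabM (Q : Subgroup Ω) (C : ℕ → Subgroup Ω) (n : ℕ) (hle : ∀ i < n, C i ≤ C (i + 1)) : Submonoid (MulAut Q) where
  carrier := {α | ∀ i < n, ∀ x : Q, (x : Ω) ∈ C (i + 1) → ((α x : Q) : Ω) * (x : Ω)⁻¹ ∈ C i}
  one_mem' := by
    intro i _ x _
    rw [MulAut.one_apply, mul_inv_cancel]
    exact one_mem _
  mul_mem' := by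
    intro α β hα hβ i hi x hx
    have h1 := hβ i hi x hx
    have h2 : ((β x : Q) : Ω) ∈ C (i + 1) := by
      have := mul_mem (hle i hi h1) hx
      rwa [inv_mul_cancel_right] at this
    have h3 := hα i hi (β x) h2
    have := mul_mem h3 h1
    rwa [mul_assoc, inv_mul_cancel_left] at this

/-- the same as a subgroup -/
def stab (Q : Subgroup Ω) [Finite Q] (C : ℕ → Subgroup Ω) (n : ℕ) (hle : ∀ i < n, C i ≤ C (i + 1)) :
    Subgroup (MulAut Q) where
  toSubmonoid := stabM Q C n hle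
  inv_mem' := by
    intro α hα
    have hfin : Finite (MulAut Q) :=
      Finite.of_injective (fun f : MulAut Q => (f : Q → Q)) DFunLike.coe_injective
    have h1 : α⁻¹ ∈ Submonoid.powers α := mem_powers_iff_mem_zpowers.2 (inv_mem (mem_zpowers α))
    obtain ⟨k, hk⟩ := h1
    have h2 : α ^ k ∈ stabM Q C n hle := pow_mem hα k
    show α⁻¹ ∈ stabM Q C n hle
    rw [← hk]
    exact h2

theorem mem_stab {Q : Subgroup Ω} [Finite Q] {C : ℕ → Subgroup Ω} {n : ℕ} {hle : ∀ i < n, C i ≤ C (i + 1)}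
    {α : MulAut Q} :
    α ∈ stab Q C n hle ↔ ∀ i < n, ∀ x : Q, (x : Ω) ∈ C (i + 1) → ((α x : Q) : Ω) * (x : Ω)⁻¹ ∈ C i := Iff.rfl

theorem C_le {Q : Subgroup Ω} {C : ℕ → Subgroup Ω} {n : ℕ} (hle : ∀ i < n, C i ≤ C (i + 1)) (hn : C n = Q) :
    ∀ i ≤ n, C i ≤ Q := by
  intro i hi
  obtain ⟨k, rfl⟩ := Nat.exists_eq_add_of_le hi
  clear hi
  induction k with
  | zero => exact hn.le
  | succ k ih =>
    have key : ∀ m : ℕ, i ≤ m → m ≤ i + (k + 1) → C i ≤ C m := by
      intro m hm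
      induction m, hm using Nat.le_induction with
      | base => intro _; exact le_rfl
      | succ m hm ih => intro h; exact (ih (by omega)).trans (hle m (by omega))
    exact (key _ (by omega) le_rfl).trans hn.le

/-- the stability group is a `p`-group -/
theorem isPGroup_stab [Fact p.Prime] {Q : Subgroup Ω} [Finite Q] (hQ : IsPGroup p Q) {C : ℕ → Subgroup Ω} {n : ℕ}
    (hle : ∀ i < n, C i ≤ C (i + 1)) (h0 : C 0 = ⊥) (hn : C n = Q) : IsPGroup p (stab Q C n hle) := by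
  rintro ⟨α, hα⟩
  have hfin : Finite (MulAut Q) :=
    Finite.of_injective (fun f : MulAut Q => (f : Q → Q)) DFunLike.coe_injective
  have key : ∀ i ≤ n, ∀ x : Q, (x : Ω) ∈ C i → (α ^ (Nat.card Q ^ i)) x = x := by
    intro i
    induction i with
    | zero =>
      intro _ x hx
      rw [h0, Subgroup.mem_bot] at hx
      have : x = 1 := Subtype.ext hx
      rw [this, map_one]
    | succ i ih =>
      intro hi x hx
      set β := α ^ (Nat.card Q ^ i) with hβ
      have hβm : β ∈ stab Q C n hle := pow_mem hα _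
      have h1 := hβm i (by omega) x hx
      have hc : ∃ c : Q, (c : Ω) ∈ C i ∧ β x = c * x := by
        refine ⟨β x * x⁻¹, h1, ?_⟩
        rw [inv_mul_cancel_right]
      obtain ⟨c, hc, hcx⟩ := hc
      have hβc : β c = c := ih (by omega) c hc
      have h2 : ∀ m : ℕ, (β ^ m) x = c ^ m * x := by
        intro m
        induction m with
        | zero => rw [pow_zero, pow_zero, one_mul, MulAut.one_apply]
        | succ m ihm =>
          rw [pow_succ', MulAut.mul_apply, ihm, map_mul, map_pow, hβc, hcx, pow_succ, mul_assoc]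
      rw [pow_succ, pow_mul, ← hβ, h2, pow_card_eq_one', one_mul]
  obtain ⟨k, hk⟩ : ∃ k, Nat.card Q = p ^ k := IsPGroup.iff_card.1 hQ
  refine ⟨k * n, Subtype.ext ?_⟩
  show α ^ p ^ (k * n) = 1
  rw [pow_mul, ← hk]
  ext x
  exact congrArg Subtype.val (key n le_rfl x (by rw [hn]; exact x.2))

/-- **The chain lemma.** -/
theorem extend_of_chain [Fact p.Prime] [Finite S] (hS : IsPGroup p S) {F : FusionSystem S} (hF : F.IsSaturated p)
    {Q : Subgroup Ω} (hQS : Q ≤ S) (hQn : ∀ s ∈ S, ∀ x ∈ Q, s * x * s⁻¹ ∈ Q) {n : ℕ} {C : ℕ → Subgroup Ω}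
    (h0 : C 0 = ⊥) (hn : C n = Q) (hle : ∀ i < n, C i ≤ C (i + 1))
    (hC : ∀ i < n, ∀ s ∈ S, ∀ x ∈ C (i + 1), s * x * s⁻¹ * x⁻¹ ∈ C i)
    {f : Ω → Ω} (hf : Mp F Q f) (hfC : ∀ i ≤ n, ∀ x ∈ C i, f x ∈ C i) :
    ∃ g, Mp F S g ∧ ∀ x ∈ Q, g x = f x := by
  have hfinQ : Finite Q := finite_of_le hQS
  have hnorm : S ≤ normalizer (Q : Set Ω) := by
    intro s hs
    rw [Subgroup.mem_normalizer_iff]
    intro x
    refine ⟨fun hx => hQn s hs x hx, fun hx => ?_⟩
    have := hQn s⁻¹ (inv_mem hs) _ hx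
    rwa [show s⁻¹ * (s * x * s⁻¹) * s⁻¹⁻¹ = x by group] at this
  have hNS : normalizerIn S Q = S := inf_eq_left.2 hnorm
  have hFN : F.IsFullyNormalized Q := by
    refine ⟨hQS, fun Q' _ => ?_⟩
    rw [hNS]
    exact Subgroup.card_le_of_le inf_le_left
  have hFA := isFullyAutomized_of_isFullyNormalized hS hF hFN
  have hFR := isReceptive_of_isFullyNormalized hS hF hFN
  have hQp : IsPGroup p Q := hS.to_le hQS
  have hB := isPGroup_stab hQp hle h0 hn
  have hCQ := C_le hle hn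
  -- `Aut_S(Q)` is the stability group in `Aut_F(Q)`
  have hsub : ∀ γ ∈ autInducedBy S Q, γ ∈ stab Q C n hle := by
    intro γ hγ
    obtain ⟨g, hg, h⟩ := (mem_autInducedBy_iff S Q γ).1 hγ
    rw [mem_stab]
    intro i hi x hx
    rw [h]
    exact hC i hi g hg x hx
  have key : ∀ γ ∈ stab Q C n hle, γ ∈ F.autGroup Q → γ ∈ autInducedBy S Q := by
    obtain ⟨-, R, hR⟩ := hFA
    have h1 : IsPGroup p ((stab Q C n hle).subgroupOf (F.autGroup Q)) := by
      rintro ⟨⟨γ, hγ'⟩, hγ⟩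
      obtain ⟨k, hk⟩ := hB ⟨γ, hγ⟩
      refine ⟨k, ?_⟩
      apply Subtype.ext
      apply Subtype.ext
      have h5 : γ ^ p ^ k = 1 := congrArg Subtype.val hk
      exact h5
    have h2 : (R : Subgroup (F.autGroup Q)) ≤ (stab Q C n hle).subgroupOf (F.autGroup Q) := by
      rw [hR]
      intro γ hγ
      exact hsub _ hγ
    have h3 := R.is_maximal' h1 h2
    intro γ hγ hγ'
    have h4 : (⟨γ, hγ'⟩ : F.autGroup Q) ∈ (stab Q C n hle).subgroupOf (F.autGroup Q) := hγ
    rw [h3, hR] at h4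
    exact h4
  obtain ⟨α, hα, hfα⟩ := hf.exists_aut (fun x hx => by
    have := hfC n le_rfl x (by rw [hn]; exact hx)
    rwa [hn] at this)
  -- `α` maps `C i` onto `C i`
  have honto : ∀ i ≤ n, ∀ x : Q, (x : Ω) ∈ C i → ((α⁻¹ x : Q) : Ω) ∈ C i := by
    intro i hi x hx
    have hfinC : Finite {y : Q // (y : Ω) ∈ C i} := inferInstance
    let φ : {y : Q // (y : Ω) ∈ C i} → {y : Q // (y : Ω) ∈ C i} := fun y => ⟨α y, by
      rw [← hfα _ y.1.2]
      exact hfC i hi _ y.2⟩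
    have hinj : Function.Injective φ := by
      intro y z hyz
      have := congrArg (fun w : {y : Q // (y : Ω) ∈ C i} => (w : Q)) hyz
      exact Subtype.ext (α.injective this)
    obtain ⟨⟨y, hy⟩, hyx⟩ := Finite.injective_iff_surjective.1 hinj ⟨x, hx⟩
    have h1 : α y = x := congrArg (fun w : {y : Q // (y : Ω) ∈ C i} => (w : Q)) hyx
    rw [← h1, MulAut.inv_apply_self]
    exact hy
  obtain ⟨φ, hφ, hφf⟩ := hf
  have hφr : φ.range = Q := by
    apply range_eq_of_mapsTo hφ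
    intro x
    rw [hφf x x.2, hfα x x.2]
    exact Subtype.coe_prop _
  have hext : extender S Q φ = S := by
    apply le_antisymm (extender_le S Q φ)
    intro s hs
    rw [mem_extender_iff]
    refine ⟨hs, hnorm hs, ?_⟩
    obtain ⟨γ, hγ⟩ := exists_conjAut (hnorm hs)
    have hγI : γ ∈ autInducedBy S Q := (mem_autInducedBy_iff S Q γ).2 ⟨s, hs, hγ⟩
    have hγA := autInducedBy_le_autGroup F hQS hγI
    have h1 : α * γ * α⁻¹ ∈ F.autGroup Q := mul_mem (mul_mem hα hγA) (inv_mem hα)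
    have h2 : α * γ * α⁻¹ ∈ stab Q C n hle := by
      rw [mem_stab]
      intro i hi x hx
      have h3 := honto (i + 1) (by omega) x hx
      have h4 := hsub γ hγI i hi (α⁻¹ x) h3
      have h5 := hfC i (by omega) _ h4
      have h6 : ((γ (α⁻¹ x) : Q) : Ω) * ((α⁻¹ x : Q) : Ω)⁻¹ = ((γ (α⁻¹ x) * (α⁻¹ x)⁻¹ : Q) : Ω) := rfl
      rw [h6, hfα _ (Subtype.coe_prop _)] at h5
      have h7 : α (γ (α⁻¹ x) * (α⁻¹ x)⁻¹) = (α * γ * α⁻¹) x * x⁻¹ := by
        rw [map_mul, map_inv, MulAut.apply_inv_self]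
        rfl
      have h8 : ((α ⟨((γ (α⁻¹ x) * (α⁻¹ x)⁻¹ : Q) : Ω), Subtype.coe_prop _⟩ : Q) : Ω) =
          (((α * γ * α⁻¹) x * x⁻¹ : Q) : Ω) := by
        rw [← h7]
      rw [h8] at h5
      exact h5
    obtain ⟨h, hh, h3⟩ := (mem_autInducedBy_iff S Q _).1 (key _ h2 h1)
    refine ⟨h, hh, fun x hx => ?_⟩
    have h4 := h3 (α x)
    have h5 : (α * γ * α⁻¹) (α x) = α (γ x) := by
      rw [MulAut.mul_apply, MulAut.mul_apply, MulAut.inv_apply_self]
    rw [h5] at h4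
    rw [hφf _ hx, hφf _ x.2, hfα _ hx, hfα _ x.2]
    have h6 : (⟨s * (x : Ω) * s⁻¹, hx⟩ : Q) = γ x := Subtype.ext (hγ x).symm
    rw [h6]
    exact h4
  obtain ⟨ψ, hψ, hψe⟩ := hFR.2 Q φ hφ hφr
  refine ⟨ex ψ, ?_, fun x hx => ?_⟩
  · have h1 := mp_ex hψ
    generalize (ex ψ : Ω → Ω) = g at h1 ⊢
    rwa [hext] at h1
  · have hx' : x ∈ extender S Q φ := by rw [hext]; exact hQS hx
    rw [ex_apply _ hx', hψe x hx hx', hφf x hx]

end Cfsg.Agent.H20.Co1
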