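import Cfsg.Agent.H20.Co1.Auts
import Cfsg.Agent.H328.CoP.Basic

/-!
# The automorphisms of `R1`, `R2`, `R3` (S5227, task C11a, helper20)
-/

set_option autoImplicit false
set_option linter.style.longLine false

namespace Cfsg.Agent.H20.Co1

open Subgroup Cfsg Cfsg.Agent.H752 Cfsg.Agent.H776.Co P

theorem aUnique : AUnique := fun _ h1 h2 h3 => H328.CoP.A_unique h1 h2 h3

theorem r3Basic : R3Basic := fun _ hm hmul hinj =>
  ⟨(H328.CoP.auts_R3_basic hm hmul hinj).1, (H328.CoP.auts_R3_basic hm hmul hinj).2.1,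
    (H328.CoP.auts_R3_basic hm hmul hinj).2.2.1, (H328.CoP.auts_R3_basic hm hmul hinj).2.2.2.1⟩

theorem auts_R3 {F F' : FusionSystem (⊤ : Subgroup P)} (hF : F.IsSaturated 3) (h3 : Mp F R3 w3) (h3' : Mp F' R3 w3)
    (htop : ∀ f, Mp F ⊤ f → Mp F' ⊤ f) : ∀ f, Mp F R3 f → (∀ x ∈ R3, f x ∈ R3) → Mp F' R3 f :=
  auts_R3' r3Basic hF h3 h3' htop

theorem auts_R1 {F F' : FusionSystem (⊤ : Subgroup P)} (hF : F.IsSaturated 3) (h3 : Mp F R1 w1) (h3' : Mp F' R1 w1)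
    (htop : ∀ f, Mp F ⊤ f → Mp F' ⊤ f) : ∀ f, Mp F R1 f → (∀ x ∈ R1, f x ∈ R1) → Mp F' R1 f :=
  auts_R1' aUnique hF h3 h3' htop

theorem auts_R2 {F F' : FusionSystem (⊤ : Subgroup P)} (hF : F.IsSaturated 3) {k : ZMod 3} (h3 : Mp F R2 (w2 k))
    (h3' : Mp F' R2 (w2 k)) (htop : ∀ f, Mp F ⊤ f → Mp F' ⊤ f) :
    ∀ f, Mp F R2 f → (∀ x ∈ R2, f x ∈ R2) → Mp F' R2 f :=
  auts_R2' aUnique hF h3 h3' htop

end Cfsg.Agent.H20.Co1
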