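import Cfsg.Agent.H776.Co.FusDef
import Cfsg.Agent.H20.Co1.Chain

/-!
# The chains of subgroups of the model (S5227, task C11a, helper20)
-/

set_option autoImplicit false
set_option linter.style.longLine false

namespace Cfsg.Agent.H20.Co1

open Subgroup Cfsg Cfsg.Agent.H752 Cfsg.Agent.H776.Co P

/-- `W2 = <11, 12>` -/
def W2 : Subgroup P where
  carrier := {x | x.a = 0 ∧ x.b = 0 ∧ x.c = 0 ∧ x.m22 = 0 ∧ x.m13 = 0 ∧ x.m23 = 0 ∧ x.m33 = 0}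
  mul_mem' := by
    rintro x y ⟨h1, h2, h3, h9, h11, h13, h15⟩ ⟨h4, h5, h6, h10, h12, h14, h16⟩
    exact ⟨by simp [h1, h4], by simp [h2, h5], by simp [h1, h3, h6],
      by simp [h2, h9, h10], by simp [h1, h3, h11, h12], by simp [h2, h13, h14], by simp [h15, h16]⟩
  one_mem' := ⟨rfl, rfl, rfl, rfl, rfl, rfl, rfl⟩
  inv_mem' := by
    rintro x ⟨h1, h2, h3, h9, h11, h13, h15⟩
    exact ⟨by simp [h1], by simp [h2], by simp [h1, h3],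
      by simp [h2, h9, h13], by simp [h1, h3, h11, h13], by simp [h2, h13, h15], by simp [h15]⟩

/-- `X4 = <11, 12, 22, 13>` -/
def X4 : Subgroup P where
  carrier := {x | x.a = 0 ∧ x.b = 0 ∧ x.c = 0 ∧ x.m23 = 0 ∧ x.m33 = 0}
  mul_mem' := by
    rintro x y ⟨h1, h2, h3, h7, h9⟩ ⟨h4, h5, h6, h8, h10⟩
    exact ⟨by simp [h1, h4], by simp [h2, h5], by simp [h1, h3, h6], by simp [h2, h7, h8], by simp [h9, h10]⟩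
  one_mem' := ⟨rfl, rfl, rfl, rfl, rfl⟩
  inv_mem' := by
    rintro x ⟨h1, h2, h3, h7, h9⟩
    exact ⟨by simp [h1], by simp [h2], by simp [h1, h3], by simp [h2, h7, h9], by simp [h9]⟩

/-- `A <x13>` -/
def AZ : Subgroup P where
  carrier := {x | x.a = 0 ∧ x.b = 0}
  mul_mem' := by
    rintro x y ⟨h1, h2⟩ ⟨h4, h5⟩
    exact ⟨by simp [h1, h4], by simp [h2, h5]⟩
  one_mem' := ⟨rfl, rfl⟩
  inv_mem' := by
    rintro x ⟨h1, h2⟩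
    exact ⟨by simp [h1], by simp [h2]⟩

/-- `W5 <x13>` -/
def Y6 : Subgroup P where
  carrier := {x | x.a = 0 ∧ x.b = 0 ∧ x.m33 = 0}
  mul_mem' := by
    rintro x y ⟨h1, h2, h3⟩ ⟨h4, h5, h6⟩
    exact ⟨by simp [h1, h4], by simp [h2, h5], by simp [h3, h6]⟩
  one_mem' := ⟨rfl, rfl, rfl⟩
  inv_mem' := by
    rintro x ⟨h1, h2, h3⟩
    exact ⟨by simp [h1], by simp [h2], by simp [h3]⟩

/-- `QL` -/
def QL : Subgroup P where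
  carrier := {x | x.a = 0 ∧ x.m33 = 0}
  mul_mem' := by
    rintro x y ⟨h1, h2⟩ ⟨h4, h5⟩
    exact ⟨by simp [h1, h4], by simp [h2, h5]⟩
  one_mem' := ⟨rfl, rfl⟩
  inv_mem' := by
    rintro x ⟨h1, h2⟩
    exact ⟨by simp [h1], by simp [h2]⟩

theorem mem_W2 {x : P} : x ∈ W2 ↔ x.a = 0 ∧ x.b = 0 ∧ x.c = 0 ∧ x.m22 = 0 ∧ x.m13 = 0 ∧ x.m23 = 0 ∧ x.m33 = 0 := Iff.rfl
theorem mem_X4 {x : P} : x ∈ X4 ↔ x.a = 0 ∧ x.b = 0 ∧ x.c = 0 ∧ x.m23 = 0 ∧ x.m33 = 0 := Iff.rfl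
theorem mem_AZ {x : P} : x ∈ AZ ↔ x.a = 0 ∧ x.b = 0 := Iff.rfl
theorem mem_Y6 {x : P} : x ∈ Y6 ↔ x.a = 0 ∧ x.b = 0 ∧ x.m33 = 0 := Iff.rfl
theorem mem_QL {x : P} : x ∈ QL ↔ x.a = 0 ∧ x.m33 = 0 := Iff.rfl

/-! ### commutators -/

/-- the commutator `s x s⁻¹ x⁻¹` -/
theorem comm_a (s x : P) : (s * x * s⁻¹ * x⁻¹).a = 0 := by simp
theorem comm_b (s x : P) : (s * x * s⁻¹ * x⁻¹).b = 0 := by simp
theorem comm_c (s x : P) : (s * x * s⁻¹ * x⁻¹).c = s.a * x.b - x.a * s.b := by simp; ring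
theorem comm_m33 (s x : P) : (s * x * s⁻¹ * x⁻¹).m33 = 0 := by simp

/-- the commutator with an element of `A` -/
theorem comm_A (s x : P) (hx : x ∈ A) : s * x * s⁻¹ * x⁻¹ =
    ⟨0, 0, 0, 2 * s.a * x.m12 + 2 * s.c * x.m13 + s.a ^ 2 * x.m22 + 2 * s.a * s.c * x.m23 + s.c ^ 2 * x.m33,
      s.a * x.m22 + s.c * x.m23 + s.b * (x.m13 + s.a * x.m23 + s.c * x.m33),
      2 * s.b * x.m23 + s.b ^ 2 * x.m33, s.a * x.m23 + s.c * x.m33, s.b * x.m33, 0⟩ := by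
  obtain ⟨h1, h2, h3⟩ := hx
  rw [mul_inv_eq_iff_eq_mul, mul_inv_eq_iff_eq_mul]
  ext <;> simp [h1, h2, h3] <;> ring

theorem comm_Y6 (s x : P) (hx : x ∈ AZ) : s * x * s⁻¹ * x⁻¹ ∈ W5 := by
  obtain ⟨h1, h2⟩ := hx
  exact ⟨comm_a s x, comm_b s x, by rw [comm_c, h1, h2]; ring, comm_m33 s x⟩

theorem comm_R (s x : P) : s * x * s⁻¹ * x⁻¹ ∈ AZ := ⟨comm_a s x, comm_b s x⟩

theorem comm_R' (s x : P) : s * x * s⁻¹ * x⁻¹ ∈ Y6 := ⟨comm_a s x, comm_b s x, comm_m33 s x⟩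

theorem comm_W5 (s x : P) (hx : x ∈ W5) : s * x * s⁻¹ * x⁻¹ ∈ X4 := by
  have h := comm_A s x ⟨hx.1, hx.2.1, hx.2.2.1⟩
  rw [h]
  obtain ⟨h1, h2, h3, h4⟩ := hx
  exact ⟨rfl, rfl, rfl, by simp [h4], rfl⟩

theorem comm_X4 (s x : P) (hx : x ∈ X4) : s * x * s⁻¹ * x⁻¹ ∈ W2 := by
  have h := comm_A s x ⟨hx.1, hx.2.1, hx.2.2.1⟩
  rw [h]
  obtain ⟨h1, h2, h3, h4, h5⟩ := hx
  exact ⟨rfl, rfl, rfl, by simp [h4, h5], by simp [h4, h5], by simp [h5], rfl⟩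

theorem comm_W3 (s x : P) (hx : x ∈ W3) : s * x * s⁻¹ * x⁻¹ ∈ W2 := by
  have h := comm_A s x ⟨hx.1, hx.2.1, hx.2.2.1⟩
  rw [h]
  obtain ⟨h1, h2, h3, h4, h5, h6⟩ := hx
  exact ⟨rfl, rfl, rfl, by simp [h5, h6], by simp [h5, h6], by simp [h6], rfl⟩

theorem comm_W2 (s x : P) (hx : x ∈ W2) : s * x * s⁻¹ * x⁻¹ ∈ W1 := by
  have h := comm_A s x ⟨hx.1, hx.2.1, hx.2.2.1⟩
  rw [h]
  obtain ⟨h1, h2, h3, h4, h5, h6, h7⟩ := hx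
  exact ⟨rfl, rfl, rfl, by simp [h4, h5, h6, h7], by simp [h6, h7], by simp [h6, h7], by simp [h7], rfl⟩

theorem comm_W1 (s x : P) (hx : x ∈ W1) : s * x * s⁻¹ * x⁻¹ = 1 := by
  have h := comm_A s x ⟨hx.1, hx.2.1, hx.2.2.1⟩
  rw [h]
  obtain ⟨h1, h2, h3, h4, h5, h6, h7, h8⟩ := hx
  ext <;> simp [h4, h5, h6, h7, h8]

theorem W2_le_W3 : W2 ≤ W3 := fun _ ⟨h1, h2, h3, _, h5, h6, h7⟩ => ⟨h1, h2, h3, h5, h6, h7⟩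
theorem W3_le_X4 : W3 ≤ X4 := fun _ ⟨h1, h2, h3, _, h6, h7⟩ => ⟨h1, h2, h3, h6, h7⟩

/-- the first part of the chains -/
def ch : ℕ → Subgroup P
  | 0 => ⊥
  | 1 => W1
  | 2 => W2
  | 3 => W3
  | 4 => X4
  | _ => W5

theorem W1_le_W2 : W1 ≤ W2 := fun _ ⟨h1, h2, h3, _, h5, h6, h7, h8⟩ => ⟨h1, h2, h3, h5, h6, h7, h8⟩
theorem X4_le_W5 : X4 ≤ W5 := fun _ ⟨h1, h2, h3, _, h7⟩ => ⟨h1, h2, h3, h7⟩

/-- the chain for `R1`, `R2` -/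
def chA (Q : Subgroup P) : ℕ → Subgroup P
  | 0 => ⊥
  | 1 => W1
  | 2 => W2
  | 3 => W3
  | 4 => X4
  | 5 => W5
  | 6 => A
  | 7 => AZ
  | _ => Q

/-- the chain for `R3` -/
def ch3 : ℕ → Subgroup P
  | 0 => ⊥
  | 1 => W1
  | 2 => W2
  | 3 => W3
  | 4 => X4
  | 5 => W5
  | 6 => Y6
  | 7 => QL
  | _ => R3

theorem chA_le {Q : Subgroup P} (hQ : AZ ≤ Q) : ∀ i < 8, chA Q i ≤ chA Q (i + 1) := by
  intro i hi
  interval_cases i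
  · exact bot_le
  · exact W1_le_W2
  · exact W2_le_W3
  · exact W3_le_X4
  · exact X4_le_W5
  · exact fun _ ⟨h1, h2, h3, _⟩ => ⟨h1, h2, h3⟩
  · exact fun _ ⟨h1, h2, _⟩ => ⟨h1, h2⟩
  · exact hQ

theorem chA_comm {Q : Subgroup P} : ∀ i < 8, ∀ s ∈ (⊤ : Subgroup P), ∀ x ∈ chA Q (i + 1),
    s * x * s⁻¹ * x⁻¹ ∈ chA Q i := by
  intro i hi s _ x hx
  interval_cases i
  · exact Subgroup.mem_bot.2 (comm_W1 s x hx)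
  · exact comm_W2 s x hx
  · exact comm_W3 s x hx
  · exact W2_le_W3 (comm_X4 s x hx)
  · exact comm_W5 s x hx
  · exact comm_Y6 s x ⟨hx.1, hx.2.1⟩
  · have h := comm_Y6 s x hx
    exact ⟨h.1, h.2.1, h.2.2.1⟩
  · exact ⟨comm_a s x, comm_b s x⟩

theorem ch3_le : ∀ i < 8, ch3 i ≤ ch3 (i + 1) := by
  intro i hi
  interval_cases i
  · exact bot_le
  · exact W1_le_W2
  · exact W2_le_W3
  · exact W3_le_X4
  · exact X4_le_W5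
  · exact fun _ ⟨h1, h2, _, h4⟩ => ⟨h1, h2, h4⟩
  · exact fun _ ⟨h1, _, h3⟩ => ⟨h1, h3⟩
  · exact fun _ ⟨_, h3⟩ => h3

theorem ch3_comm : ∀ i < 8, ∀ s ∈ (⊤ : Subgroup P), ∀ x ∈ ch3 (i + 1), s * x * s⁻¹ * x⁻¹ ∈ ch3 i := by
  intro i hi s _ x hx
  interval_cases i
  · exact Subgroup.mem_bot.2 (comm_W1 s x hx)
  · exact comm_W2 s x hx
  · exact comm_W3 s x hx
  · exact W2_le_W3 (comm_X4 s x hx)
  · exact comm_W5 s x hx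
  · exact comm_Y6 s x ⟨hx.1, hx.2.1⟩
  · exact comm_R' s x
  · exact ⟨comm_a s x, comm_m33 s x⟩

end Cfsg.Agent.H20.Co1
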