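import Cfsg.Agent.H20.Co1.Model

/-!
# The chains of subgroups of the model are preserved (S5227, task C11a, helper20)
-/

set_option autoImplicit false
set_option linter.style.longLine false

namespace Cfsg.Agent.H20.Co1

open Subgroup Cfsg Cfsg.Agent.H752 Cfsg.Agent.H776.Co P

/-- the images of commutators -/
theorem Mp.comm {Ω : Type*} [Group Ω] {S Q : Subgroup Ω} {F : FusionSystem S} {h : Ω → Ω} (hh : Mp F Q h) {s x : Ω}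
    (hs : s ∈ Q) (hx : x ∈ Q) : h (s * x * s⁻¹ * x⁻¹) = h s * h x * (h s)⁻¹ * (h x)⁻¹ := by
  rw [hh.mul (mul_mem (mul_mem hs hx) (inv_mem hs)) (inv_mem hx), hh.mul (mul_mem hs hx) (inv_mem hs),
    hh.mul hs hx, hh.inv hs, hh.inv hx]

/-- `M3 = <11, 12, 13>` -/
def InM3 (x : P) : Prop := x.a = 0 ∧ x.b = 0 ∧ x.c = 0 ∧ x.m22 = 0 ∧ x.m23 = 0 ∧ x.m33 = 0

/-- `x13` -/
def z13 : P := ⟨0, 0, 1, 0, 0, 0, 0, 0, 0⟩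

theorem z13_mem : z13 ∈ AZ := ⟨rfl, rfl⟩

theorem two_two (x : ZMod 3) : 2 * (2 * x) = x := by
  have : (2 : ZMod 3) * 2 = 1 := by decide
  rw [← mul_assoc, this, one_mul]

theorem comm_AZ (s x : P) (hs : s ∈ AZ) (hx : x ∈ A) : s * x * s⁻¹ * x⁻¹ =
    ⟨0, 0, 0, 2 * s.c * x.m13 + s.c ^ 2 * x.m33, s.c * x.m23, 0, s.c * x.m33, 0, 0⟩ := by
  rw [comm_A s x hx]
  obtain ⟨h1, h2⟩ := hs
  ext <;> simp [h1, h2]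

theorem chA_pres {F : FusionSystem (⊤ : Subgroup P)} {Q : Subgroup P} (hQ : AZ ≤ Q) {h : P → P} (hh : Mp F Q h)
    (hm : ∀ x ∈ Q, h x ∈ Q) (hA : ∀ x ∈ A, h x ∈ A) (hAZ : ∀ x ∈ AZ, h x ∈ AZ) :
    ∀ i ≤ 8, ∀ x ∈ chA Q i, h x ∈ chA Q i := by
  have hAAZ : A ≤ AZ := fun _ ⟨h1, h2, _⟩ => ⟨h1, h2⟩
  have hAQ : A ≤ Q := hAAZ.trans hQ
  have hsurj : ∀ y ∈ AZ, ∃ x ∈ AZ, h x = y := fun y hy => (hh.res hQ).surj hAZ hy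
  -- W3
  have h3 : ∀ x ∈ W3, h x ∈ W3 := by
    intro x hx
    have hxA : x ∈ A := ⟨hx.1, hx.2.1, hx.2.2.1⟩
    obtain ⟨y, hy, hyz⟩ := hsurj z13 z13_mem
    have h1 : h (y * x * y⁻¹ * x⁻¹) = 1 := by
      rw [comm_AZ y x hy hxA, hx.2.2.2.1, hx.2.2.2.2.1, hx.2.2.2.2.2]
      simp only [mul_zero, add_zero]
      exact hh.one
    rw [Mp.comm hh (hQ hy) (hAQ hxA), hyz, comm_AZ z13 (h x) z13_mem (hA x hxA)] at h1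
    have e1 := congrArg P.m13 h1
    have e2 := congrArg P.m12 h1
    have e3 := congrArg P.m11 h1
    simp only [z13, one_m13, one_m12, one_m11, one_mul, one_pow, mul_one] at e1 e2 e3
    have hxA' := hA x hxA
    refine ⟨hxA'.1, hxA'.2.1, hxA'.2.2, ?_, e2, e1⟩
    rw [e1, add_zero] at e3
    have := two_two (h x).m13
    rw [e3, mul_zero] at this
    exact this.symm
  -- M3
  have hM3 : ∀ x, InM3 x → InM3 (h x) := by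
    rintro x ⟨x1, x2, x3, x4, x5, x6⟩
    have hu : (⟨0, 0, 0, 0, 0, 0, 2 * (x.m11 - x.m13), x.m12, x.m13⟩ : P) ∈ A := ⟨rfl, rfl, rfl⟩
    have e : x = z13 * ⟨0, 0, 0, 0, 0, 0, 2 * (x.m11 - x.m13), x.m12, x.m13⟩ * z13⁻¹ *
        (⟨0, 0, 0, 0, 0, 0, 2 * (x.m11 - x.m13), x.m12, x.m13⟩ : P)⁻¹ := by
      rw [comm_AZ z13 _ z13_mem hu]
      ext
      · exact x1
      · exact x2
      · exact x3
      · simp only [z13, mul_one, one_pow, one_mul]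
        rw [two_two]
        ring
      · simp [z13]
      · exact x4
      · simp [z13]
      · exact x5
      · exact x6
    rw [e, Mp.comm hh (hQ z13_mem) (hAQ hu), comm_AZ _ _ (hAZ _ z13_mem) (hA _ hu)]
    exact ⟨rfl, rfl, rfl, rfl, rfl, rfl⟩
  -- W1
  have h1 : ∀ x ∈ W1, h x ∈ W1 := by
    rintro x ⟨x1, x2, x3, x4, x5, x6, x7, x8⟩
    have hu : (⟨0, 0, 0, 0, 0, 0, 2 * x.m11, 0, 0⟩ : P) ∈ A := ⟨rfl, rfl, rfl⟩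
    have hu3 : InM3 (⟨0, 0, 0, 0, 0, 0, 2 * x.m11, 0, 0⟩ : P) := ⟨rfl, rfl, rfl, rfl, rfl, rfl⟩
    have e : x = z13 * ⟨0, 0, 0, 0, 0, 0, 2 * x.m11, 0, 0⟩ * z13⁻¹ *
        (⟨0, 0, 0, 0, 0, 0, 2 * x.m11, 0, 0⟩ : P)⁻¹ := by
      rw [comm_AZ z13 _ z13_mem hu]
      ext
      · exact x1
      · exact x2
      · exact x3
      · simp only [z13, mul_one, one_pow, mul_zero, add_zero]
        rw [two_two]
      · simp [x4]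
      · exact x5
      · simp [x6]
      · exact x7
      · exact x8
    obtain ⟨-, -, -, -, y5, y6⟩ := hM3 _ hu3
    rw [e, Mp.comm hh (hQ z13_mem) (hAQ hu), comm_AZ _ _ (hAZ _ z13_mem) (hA _ hu), y5, y6]
    exact ⟨rfl, rfl, rfl, by simp, rfl, by simp, rfl, rfl⟩
  -- W2
  have h2 : ∀ x ∈ W2, h x ∈ W2 := by
    intro x hx
    have e1 := h3 x (W2_le_W3 hx)
    have e2 := hM3 x ⟨hx.1, hx.2.1, hx.2.2.1, hx.2.2.2.1, hx.2.2.2.2.2.1, hx.2.2.2.2.2.2⟩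
    exact ⟨e1.1, e1.2.1, e1.2.2.1, e2.2.2.2.1, e1.2.2.2.1, e1.2.2.2.2.1, e1.2.2.2.2.2⟩
  -- X4
  have h4 : ∀ x ∈ X4, h x ∈ X4 := by
    rintro x ⟨x1, x2, x3, x4, x5⟩
    have hu : (⟨0, 0, 0, x.m11, x.m12, x.m22, 0, 0, 0⟩ : P) ∈ W3 := ⟨rfl, rfl, rfl, rfl, rfl, rfl⟩
    have hv : InM3 (⟨0, 0, 0, 0, 0, 0, x.m13, 0, 0⟩ : P) := ⟨rfl, rfl, rfl, rfl, rfl, rfl⟩
    have hvA : (⟨0, 0, 0, 0, 0, 0, x.m13, 0, 0⟩ : P) ∈ A := ⟨rfl, rfl, rfl⟩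
    have huA : (⟨0, 0, 0, x.m11, x.m12, x.m22, 0, 0, 0⟩ : P) ∈ A := ⟨rfl, rfl, rfl⟩
    have e : x = ⟨0, 0, 0, x.m11, x.m12, x.m22, 0, 0, 0⟩ * ⟨0, 0, 0, 0, 0, 0, x.m13, 0, 0⟩ := by
      ext <;> simp [x1, x2, x3, x4, x5]
    rw [e, hh.mul (hAQ huA) (hAQ hvA)]
    refine mul_mem (W3_le_X4 (h3 _ hu)) ?_
    have := hM3 _ hv
    exact ⟨this.1, this.2.1, this.2.2.1, this.2.2.2.2.1, this.2.2.2.2.2⟩
  -- W5
  have h5 : ∀ x ∈ W5, h x ∈ W5 := by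
    intro x hx
    have hxA : x ∈ A := ⟨hx.1, hx.2.1, hx.2.2.1⟩
    obtain ⟨y, hy, hyz⟩ := hsurj z13 z13_mem
    have hc : y * x * y⁻¹ * x⁻¹ ∈ A := by
      rw [comm_AZ y x hy hxA]; exact ⟨rfl, rfl, rfl⟩
    have e1 : h (y * (y * x * y⁻¹ * x⁻¹) * y⁻¹ * (y * x * y⁻¹ * x⁻¹)⁻¹) = 1 := by
      rw [comm_AZ y _ hy hc, comm_AZ y x hy hxA, hx.2.2.2]
      simp only [mul_zero, add_zero]
      exact hh.one
    rw [Mp.comm hh (hQ hy) (hAQ hc), Mp.comm hh (hQ hy) (hAQ hxA), hyz] at e1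
    have hc' : z13 * h x * z13⁻¹ * (h x)⁻¹ ∈ A := by
      rw [comm_AZ z13 _ z13_mem (hA x hxA)]; exact ⟨rfl, rfl, rfl⟩
    rw [comm_AZ z13 _ z13_mem hc', comm_AZ z13 _ z13_mem (hA x hxA)] at e1
    have e2 := congrArg P.m11 e1
    simp only [z13, one_m11, one_mul, one_pow, mul_one, add_zero] at e2
    have hxA' := hA x hxA
    refine ⟨hxA'.1, hxA'.2.1, hxA'.2.2, ?_⟩
    have := two_two (h x).m33
    rw [e2, mul_zero] at this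
    exact this.symm
  intro i hi
  interval_cases i
  · intro x hx
    have : x = 1 := Subgroup.mem_bot.1 hx
    rw [this, hh.one]
    exact one_mem _
  · exact h1
  · exact h2
  · exact h3
  · exact h4
  · exact h5
  · exact hA
  · exact hAZ
  · exact hm

/-! ### the chain of `R3` -/

/-- `x12` -/
def z12 : P := ⟨1, 0, 0, 0, 0, 0, 0, 0, 0⟩
/-- `x23` -/
def z23 : P := ⟨0, 1, 0, 0, 0, 0, 0, 0, 0⟩

theorem comm_z12 (x : P) (hx : x ∈ A) : z12 * x * z12⁻¹ * x⁻¹ =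
    ⟨0, 0, 0, 2 * x.m12 + x.m22, x.m22, 0, x.m23, 0, 0⟩ := by
  rw [comm_A z12 x hx]
  ext <;> simp [z12]

theorem comm_z23 (x : P) (hx : x ∈ A) : z23 * x * z23⁻¹ * x⁻¹ =
    ⟨0, 0, 0, 0, x.m13, 2 * x.m23 + x.m33, 0, x.m33, 0⟩ := by
  rw [comm_A z23 x hx]
  ext <;> simp [z23]

theorem ch3_pres {F : FusionSystem (⊤ : Subgroup P)} {h : P → P} (hh : Mp F R3 h)
    (hm : ∀ x ∈ R3, h x ∈ R3) (h1 : ∀ x ∈ W1, h x ∈ W1) (h3 : ∀ x ∈ W3, h x ∈ W3)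
    (hQL : ∀ x ∈ QL, h x ∈ QL) (h5 : ∀ x ∈ W5, h x ∈ W5) :
    ∀ i ≤ 8, ∀ x ∈ ch3 i, h x ∈ ch3 i := by
  have hW5 : W5 ≤ R3 := fun _ ⟨_, _, _, h4⟩ => h4
  have hz12 : z12 ∈ R3 := rfl
  have hz23 : z23 ∈ R3 := rfl
  have hsurj : ∀ y ∈ R3, ∃ x ∈ R3, h x = y := fun y hy => hh.surj hm hy
  -- Y6
  have h6 : ∀ x ∈ Y6, h x ∈ Y6 := by
    intro x hx
    have hxR : x ∈ R3 := hx.2.2
    have key : ∀ y ∈ R3, y.a * (h x).b - (h x).a * y.b = 0 := by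
      intro y hy
      obtain ⟨y', hy', rfl⟩ := hsurj y hy
      have e1 := h5 _ (comm_Y6 y' x ⟨hx.1, hx.2.1⟩)
      rw [Mp.comm hh hy' hxR] at e1
      rw [← comm_c]
      exact e1.2.2.1
    have e1 := key z12 hz12
    have e2 := key z23 hz23
    simp only [z12, z23, one_mul, zero_mul, mul_zero, mul_one, sub_zero, zero_sub, neg_eq_zero] at e1 e2
    exact ⟨e2, e1, hm x hxR⟩
  -- X4
  have h4 : ∀ x ∈ X4, h x ∈ X4 := by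
    rintro x ⟨x1, x2, x3, x4, x5⟩
    have hu : (⟨0, 0, 0, 0, 2 * x.m11, 0, 0, x.m13, 0⟩ : P) ∈ W5 := ⟨rfl, rfl, rfl, rfl⟩
    have huA : (⟨0, 0, 0, 0, 2 * x.m11, 0, 0, x.m13, 0⟩ : P) ∈ A := ⟨rfl, rfl, rfl⟩
    have hv : (⟨0, 0, 0, 0, 0, 0, x.m12, 2 * x.m22, 0⟩ : P) ∈ W5 := ⟨rfl, rfl, rfl, rfl⟩
    have hvA : (⟨0, 0, 0, 0, 0, 0, x.m12, 2 * x.m22, 0⟩ : P) ∈ A := ⟨rfl, rfl, rfl⟩
    have hcu : z12 * ⟨0, 0, 0, 0, 2 * x.m11, 0, 0, x.m13, 0⟩ * z12⁻¹ * (⟨0, 0, 0, 0, 2 * x.m11, 0, 0, x.m13, 0⟩ : P)⁻¹ ∈ R3 := by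
      rw [comm_z12 _ huA]; rfl
    have hcv : z23 * ⟨0, 0, 0, 0, 0, 0, x.m12, 2 * x.m22, 0⟩ * z23⁻¹ * (⟨0, 0, 0, 0, 0, 0, x.m12, 2 * x.m22, 0⟩ : P)⁻¹ ∈ R3 := by
      rw [comm_z23 _ hvA]; rfl
    have e : x = (z12 * ⟨0, 0, 0, 0, 2 * x.m11, 0, 0, x.m13, 0⟩ * z12⁻¹ * (⟨0, 0, 0, 0, 2 * x.m11, 0, 0, x.m13, 0⟩ : P)⁻¹) *
        (z23 * ⟨0, 0, 0, 0, 0, 0, x.m12, 2 * x.m22, 0⟩ * z23⁻¹ * (⟨0, 0, 0, 0, 0, 0, x.m12, 2 * x.m22, 0⟩ : P)⁻¹) := by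
      rw [comm_z12 _ huA, comm_z23 _ hvA]
      ext <;> simp [x1, x2, x3, x4, x5, two_two]
    rw [e, hh.mul hcu hcv, Mp.comm hh hz12 (hW5 hu), Mp.comm hh hz23 (hW5 hv)]
    exact mul_mem (comm_W5 _ _ (h5 _ hu)) (comm_W5 _ _ (h5 _ hv))
  -- W2
  have h2 : ∀ x ∈ W2, h x ∈ W2 := by
    rintro x ⟨x1, x2, x3, x4, x5, x6, x7⟩
    have hu : (⟨0, 0, 0, 0, 2 * (x.m11 - x.m12), x.m12, 0, 0, 0⟩ : P) ∈ X4 := ⟨rfl, rfl, rfl, rfl, rfl⟩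
    have huA : (⟨0, 0, 0, 0, 2 * (x.m11 - x.m12), x.m12, 0, 0, 0⟩ : P) ∈ A := ⟨rfl, rfl, rfl⟩
    have e : x = z12 * ⟨0, 0, 0, 0, 2 * (x.m11 - x.m12), x.m12, 0, 0, 0⟩ * z12⁻¹ *
        (⟨0, 0, 0, 0, 2 * (x.m11 - x.m12), x.m12, 0, 0, 0⟩ : P)⁻¹ := by
      rw [comm_z12 _ huA]
      ext <;> simp [x1, x2, x3, x4, x5, x6, x7, two_two]
    rw [e, Mp.comm hh hz12 (hW5 (X4_le_W5 hu))]
    exact comm_X4 _ _ (h4 _ hu)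
  intro i hi
  interval_cases i
  · intro x hx
    have : x = 1 := Subgroup.mem_bot.1 hx
    rw [this, hh.one]
    exact one_mem _
  · exact h1
  · exact h2
  · exact h3
  · exact h4
  · exact h5
  · exact h6
  · exact hQL
  · exact hm

end Cfsg.Agent.H20.Co1
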